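import Groth.Agent.GeomNear.ProperFlat
import Groth.Agent.H23.RigidGamma
import Groth.Agent.H23.SecUniv
import Groth.Agent.GeomField.Connected
import Groth.Agent.RGLib.ApproxGeomCount
import Groth.Agent.HensCouple7.Gamma
import Groth.Agent.S8533
import Groth.Agent.H23.LocNoethTop
import Groth.Agent.Hensel.Henselization
import Groth.Agent.S1297
import Groth.Prelude.Def_Hensel
import Mathlib.AlgebraicGeometry.Morphisms.Etale
import Mathlib.AlgebraicGeometry.Geometrically.Reduced

/-! Global functions of proper flat geometrically reduced schemes over strictly henselian rings. -/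

set_option autoImplicit false
set_option linter.style.haveILetI false
set_option backward.isDefEq.respectTransparency false
set_option backward.isDefEq.respectTransparency.types false
universe u

open CategoryTheory CategoryTheory.Limits AlgebraicGeometry TopologicalSpace

noncomputable section

namespace Groth.Agent.SteinFE

theorem geometricallyReduced_openImmersion_comp {X' X Y : Scheme.{u}} (j : X' ⟶ X) [IsOpenImmersion j]
    (f : X ⟶ Y) [GeometricallyReduced f] : GeometricallyReduced (j ≫ f) := by
  refine ⟨fun K _ y P fst snd h => ?_⟩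
  haveI : IsReduced (pullback f y) :=
    GeometricallyReduced.geometrically_isReduced (f := f) _ _ _ (.of_hasPullback _ _)
  haveI : IsReduced (pullback j (pullback.fst f y)) := isReduced_of_isOpenImmersion (pullback.snd j (pullback.fst f y))
  exact isReduced_of_isOpenImmersion (h.isoPullback ≪≫ (pullbackRightPullbackFstIso f y j).symm).hom

/-- Direct image of the structure sheaf in the connected case. -/
theorem isIso_app_of_geomConn {X Y : Scheme.{u}} (f : X ⟶ Y) [IsProper f] [Flat f] [IsLocallyNoetherian Y]
    [GeometricallyConnected f] [GeometricallyReduced f]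
    (T : Scheme.{u}) (g : T ⟶ Y) (U : T.Opens) : IsIso ((pullback.snd f g).app U) :=
  H23.SecUniv.isIso_app_snd f (H23.RigidGamma.constFibres f) T g U

theorem bijective_appTop_of_geomConn {X Y : Scheme.{u}} (f : X ⟶ Y) [IsProper f] [Flat f] [IsLocallyNoetherian Y]
    [GeometricallyConnected f] [GeometricallyReduced f] : Function.Bijective f.appTop := by
  haveI := isIso_app_of_geomConn f Y (𝟙 Y) ⊤
  have h : Function.Bijective (pullback.snd f (𝟙 Y)).appTop := ConcreteCategory.bijective_of_isIso _
  rw [show pullback.snd f (𝟙 Y) = pullback.fst f (𝟙 Y) ≫ f by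
    rw [pullback.condition, Category.comp_id], Scheme.Hom.comp_appTop] at h
  replace h : Function.Bijective ((pullback.fst f (𝟙 Y)).appTop ∘ f.appTop) := h
  exact (Function.Bijective.of_comp_iff' (ConcreteCategory.bijective_of_isIso _) _).1 h

section

variable (R : Type u) [CommRing R] [HenselianLocalRing R] [IsNoetherianRing R]
  [IsSepClosed (IsLocalRing.ResidueField R)] {X : Scheme.{u}} (f : X ⟶ Spec (CommRingCat.of R))
  [IsProper f] [Flat f] [LocallyOfFinitePresentation f] [GeometricallyReduced f]

/-- A connected proper flat geometrically reduced scheme over a strictly henselian ring is geometrically connected. -/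
theorem geometricallyConnected_of_connected [ConnectedSpace X] : GeometricallyConnected f := by
  let s : Spec (CommRingCat.of R) := (IsLocalRing.closedPoint R : PrimeSpectrum R)
  obtain ⟨hinj, hsurj⟩ := Groth.Agent.S8533.result R f
  haveI : ConnectedSpace ↥(f.fiber s) := by
    have hne : Nonempty ↥(f.fiber s) := by
      obtain ⟨c, -⟩ := hsurj (ConnectedComponents.mk (Classical.arbitrary X))
      obtain ⟨x, -⟩ := ConnectedComponents.surjective_coe c
      exact ⟨x⟩
    haveI : PreconnectedSpace ↥(f.fiber s) := ⟨by
      obtain ⟨x⟩ := hne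
      have : connectedComponent x = Set.univ := Set.eq_univ_of_forall fun y => by
        refine ConnectedComponents.coe_eq_coe'.1 (hinj ?_)
        obtain ⟨a, ha⟩ := ConnectedComponents.surjective_coe (Continuous.connectedComponentsMap (f.fiberι s).continuous (ConnectedComponents.mk y))
        obtain ⟨b, hb⟩ := ConnectedComponents.surjective_coe (Continuous.connectedComponentsMap (f.fiberι s).continuous (ConnectedComponents.mk x))
        rw [← ha, ← hb]
        exact ConnectedComponents.coe_eq_coe'.2 (by rw [PreconnectedSpace.connectedComponent_eq_univ]; trivial)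
      rw [← this]
      exact isPreconnected_connectedComponent⟩
    exact ⟨hne⟩
  let k := (Spec (CommRingCat.of R)).residueField s
  haveI : IsSepClosed k := by
    let e₁ : IsLocalRing.ResidueField R ≃+* (IsLocalRing.maximalIdeal R).ResidueField :=
      RingEquiv.ofBijective _ (IsLocalRing.maximalIdeal R).bijective_algebraMap_quotient_residueField
    exact Hensel.isSepClosed_of_ringEquiv (e₁.trans (Scheme.Spec.residueFieldIso (CommRingCat.of R) s).symm.commRingCatIsoToRingEquiv)
  have h1 : MoreMor.nGeomConnComp f s = 1 := by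
    letI : (f.fiber s).Over (Spec (CommRingCat.of k)) := ⟨f.fiberToSpecResidueField s⟩
    haveI : ConnectedSpace ↥(MoreMor.geomFiber f s) :=
      GeomField.connectedSpace_bc_of_isSepClosed (k := k) (X := f.fiber s) (SeparableClosure k)
    exact (RGLib.ApproxCount.card_connected_eq_one_iff _).2 inferInstance
  rw [RGLib.ApproxCount.geometricallyConnected_iff]
  intro y
  rw [← h1]
  haveI : PreconnectedSpace ↥(Spec (CommRingCat.of R)) := ⟨fun u v hu hv huv hu' hv' => by
    have key : ∀ w : Set ↥(Spec (CommRingCat.of R)), IsOpen w → s ∈ w → w = Set.univ := fun w hw hs =>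
      Set.eq_univ_of_forall fun z => (IsLocalRing.specializes_closedPoint (z : PrimeSpectrum R)).mem_open hw hs
    rcases huv (Set.mem_univ s) with h | h
    · rw [key u hu h, Set.univ_inter]; exact hv'
    · rw [key v hv h, Set.inter_univ]; exact hu'⟩
  exact (GeomNear.isLocallyConstant_nGeomConnComp f).apply_eq_of_preconnectedSpace y s

/-- Global functions are etale over a strictly henselian base. -/
theorem etale_appTop : f.appTop.hom.Etale := by
  haveI : IsNoetherian (Spec (CommRingCat.of R)) := inferInstance
  haveI : IsLocallyNoetherian X := LocallyOfFiniteType.isLocallyNoetherian f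
  haveI : CompactSpace X := QuasiCompact.compactSpace_of_compactSpace f
  haveI : IsNoetherian X := {}
  algebraize [f.appTop.hom]
  have key : ∀ q : PrimeSpectrum Γ(X, ⊤), Algebra.IsEtaleAt Γ(Spec (CommRingCat.of R), ⊤) q.asIdeal := by
    intro q
    haveI : LocallyConnectedSpace X := H23.LocNoethTop.locallyConnectedSpace fun x =>
      ⟨Set.univ, Filter.univ_mem, (noetherianSpace_set_iff _).2 fun t _ => NoetherianSpace.isCompact t⟩
    have hc : ∀ x : X, IsClopen (connectedComponent x) := fun x => isClopen_connectedComponent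
    choose ε hε hεU using fun x : X => HensCouple7.exists_idempotent_of_isClopen (hc x)
    obtain ⟨x, hx⟩ : ∃ x, ε x ∉ q.asIdeal := by
      by_contra! hall
      have htop : ∀ x : X, x ∈ X.basicOpen (ε x) := fun x => (hεU x).ge mem_connectedComponent
      have hu : ∀ x : X, ¬ IsUnit (ε x) := fun x h => q.isPrime.ne_top (Ideal.eq_top_of_isUnit_mem _ (hall x) h)
      obtain ⟨t, ht⟩ := isCompact_univ.elim_finite_subcover (fun x : X => (X.basicOpen (ε x) : Set X))
        (fun x => (X.basicOpen (ε x)).2) (fun x _ => Set.mem_iUnion.2 ⟨x, htop x⟩)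
      have hz : (∏ x ∈ t, (1 - ε x)) = 0 := by
        have hid : IsIdempotentElem (∏ x ∈ t, (1 - ε x)) := by
          show _ * _ = _
          rw [← Finset.prod_mul_distrib]
          exact Finset.prod_congr rfl fun x _ => by linear_combination hε x
        refine hid.eq_zero_of_isNilpotent ((Scheme.isNilpotent_iff_basicOpen_eq_bot_of_isCompact
          (U := ⊤) isCompact_univ _).2 (eq_bot_iff.2 fun z hz => ?_))
        obtain ⟨x, hxt, hzx⟩ := Set.mem_iUnion₂.1 (ht (Set.mem_univ z))
        have h0 : X.basicOpen (∏ x ∈ t, (1 - ε x)) ≤ X.basicOpen (1 - ε x) := by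
          classical rw [← Finset.mul_prod_erase t _ hxt, Scheme.basicOpen_mul]; exact inf_le_left
        have : z ∈ X.basicOpen ((1 - ε x) * ε x) := by rw [Scheme.basicOpen_mul]; exact ⟨h0 hz, hzx⟩
        rwa [show (1 - ε x) * ε x = 0 by linear_combination -(hε x), Scheme.basicOpen_zero] at this
      obtain ⟨x, -, hxq⟩ := q.isPrime.prod_mem_iff.1 (hz ▸ q.asIdeal.zero_mem : (∏ x ∈ t, (1 - ε x)) ∈ q.asIdeal)
      exact q.isPrime.ne_top ((Ideal.eq_top_iff_one _).2 (by simpa using q.asIdeal.add_mem hxq (hall x)))
    let U : X.Opens := X.basicOpen (ε x)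
    have hUc : IsClosed (U : Set X) := by rw [hεU]; exact isClosed_connectedComponent
    haveI : IsClosedImmersion U.ι := IsClosedImmersion.of_isPreimmersion U.ι (by rw [Scheme.Opens.range_ι]; exact hUc)
    haveI : ConnectedSpace ↥U.toScheme := by
      have : _root_.IsConnected (U : Set X) := by rw [hεU]; exact isConnected_connectedComponent
      exact isConnected_iff_connectedSpace.1 this
    haveI := geometricallyReduced_openImmersion_comp U.ι f
    haveI := geometricallyConnected_of_connected R (U.ι ≫ f)
    have hb := bijective_appTop_of_geomConn (U.ι ≫ f)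
    rw [Scheme.Hom.comp_appTop] at hb
    haveI hl : IsLocalization.Away (ε x) Γ(X, U) :=
      isLocalization_basicOpen_of_qcqs isCompact_univ isQuasiSeparated_univ (ε x)
    letI : Algebra Γ(Spec (CommRingCat.of R), ⊤) Γ(X, U) :=
      ((algebraMap Γ(X, ⊤) Γ(X, U)).comp (algebraMap Γ(Spec (CommRingCat.of R), ⊤) Γ(X, ⊤))).toAlgebra
    haveI : IsScalarTower Γ(Spec (CommRingCat.of R), ⊤) Γ(X, ⊤) Γ(X, U) := IsScalarTower.of_algebraMap_eq' rfl
    have hb' : Function.Bijective (algebraMap Γ(Spec (CommRingCat.of R), ⊤) Γ(X, U)) := by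
      have : Function.Bijective ((U.topIso.hom) ∘ (U.ι.appTop ∘ f.appTop)) :=
        (ConcreteCategory.bijective_of_isIso U.topIso.hom).comp hb
      convert this using 1
      ext r
      show X.presheaf.map (homOfLE le_top).op (f.appTop r) = U.topIso.hom (U.ι.appTop (f.appTop r))
      rw [← ConcreteCategory.comp_apply (U.ι.appTop)]
      refine congrArg (fun φ : Γ(X, ⊤) ⟶ Γ(X, U) => φ (f.appTop r)) ?_
      rw [Scheme.Opens.ι_appTop, Scheme.Opens.topIso_hom, ← Functor.map_comp]
      rfl
    haveI : Algebra.FormallyEtale Γ(Spec (CommRingCat.of R), ⊤) Γ(X, U) :=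
      Algebra.FormallyEtale.of_equiv (AlgEquiv.ofBijective (Algebra.ofId _ _) hb')
    have hle : Submonoid.powers (ε x) ≤ q.asIdeal.primeCompl := Submonoid.powers_le.2 hx
    letI : Algebra Γ(X, U) (Localization.AtPrime q.asIdeal) :=
      IsLocalization.localizationAlgebraOfSubmonoidLe Γ(X, U) (Localization.AtPrime q.asIdeal) (Submonoid.powers (ε x)) _ hle
    haveI : IsScalarTower Γ(X, ⊤) Γ(X, U) (Localization.AtPrime q.asIdeal) :=
      IsLocalization.localization_isScalarTower_of_submonoid_le Γ(X, U) (Localization.AtPrime q.asIdeal) _ _ hle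
    haveI : IsScalarTower Γ(Spec (CommRingCat.of R), ⊤) Γ(X, U) (Localization.AtPrime q.asIdeal) :=
      IsScalarTower.to₁₃₄ _ Γ(X, ⊤) _ _
    haveI : IsLocalization (q.asIdeal.primeCompl.map (algebraMap Γ(X, ⊤) Γ(X, U))) (Localization.AtPrime q.asIdeal) :=
      IsLocalization.isLocalization_of_submonoid_le _ _ (Submonoid.powers (ε x)) _ hle
    haveI : Algebra.FormallyEtale Γ(X, U) (Localization.AtPrime q.asIdeal) :=
      Algebra.FormallyEtale.of_isLocalization (q.asIdeal.primeCompl.map (algebraMap Γ(X, ⊤) Γ(X, U)))
    exact Algebra.FormallyEtale.comp Γ(Spec (CommRingCat.of R), ⊤) Γ(X, U) (Localization.AtPrime q.asIdeal)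
  haveI : Algebra.FinitePresentation Γ(Spec (CommRingCat.of R), ⊤) Γ(X, ⊤) := by
    haveI : IsNoetherianRing Γ(Spec (CommRingCat.of R), ⊤) :=
      isNoetherianRing_of_ringEquiv R (Scheme.ΓSpecIso (CommRingCat.of R)).commRingCatIsoToRingEquiv.symm
    haveI : Module.Finite Γ(Spec (CommRingCat.of R), ⊤) Γ(X, ⊤) :=
      RingHom.finite_algebraMap.1 (Groth.Agent.S1297.finite_appTop f)
    exact Algebra.FinitePresentation.of_finiteType.1 inferInstance
  exact Algebra.etaleLocus_eq_univ_iff_etale.1 (Set.eq_univ_of_forall key)

end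

end Groth.Agent.SteinFE
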