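import Groth.Agent.SteinFE.Strict
import Groth.Agent.FlatMisc.SteinUC
import Groth.Agent.FlatMisc.GeomRedOpen
import Groth.Agent.ZarConn.Basic
import Groth.Agent.S1297
import Groth.Agent.S0537
import Groth.Agent.S0539
import Groth.Agent.S0540
import Mathlib.AlgebraicGeometry.Normalization
import Mathlib.RingTheory.Etale.Descent
import Mathlib.RingTheory.Etale.Locus

/-! The Stein factorisation of a proper flat morphism with geometrically reduced fibres. -/

set_option autoImplicit false
set_option linter.style.haveILetI false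
set_option backward.isDefEq.respectTransparency false
set_option backward.isDefEq.respectTransparency.types false
universe u

open CategoryTheory CategoryTheory.Limits AlgebraicGeometry TopologicalSpace

noncomputable section

namespace Groth.Agent.SteinFE

/-- The direct image of the structure sheaf is the structure sheaf, universally. -/
def Good {X N : Scheme.{u}} (h : X ⟶ N) : Prop :=
  ∀ (T : Scheme.{u}) (g : T ⟶ N) (U : T.Opens), IsIso ((pullback.snd h g).app U)

theorem isIso_app_comp_iso {A B C : Scheme.{u}} (e : A ≅ B) (p : B ⟶ C) (U : C.Opens)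
    [IsIso (p.app U)] : IsIso ((e.hom ≫ p).app U) := by
  rw [Scheme.Hom.comp_app]; infer_instance

theorem Good.app {X N : Scheme.{u}} {h : X ⟶ N} (H : Good h) (U : N.Opens) : IsIso (h.app U) := by
  haveI := H N (𝟙 N) U
  have := isIso_app_comp_iso (asIso (pullback.fst h (𝟙 N))).symm (pullback.snd h (𝟙 N)) U
  rwa [show (asIso (pullback.fst h (𝟙 N))).symm.hom ≫ pullback.snd h (𝟙 N) = h by
    simp [← cancel_epi (pullback.fst h (𝟙 N)), pullback.condition]] at this

theorem Good.of_isPullback {X N X' N' : Scheme.{u}} {h : X ⟶ N} (H : Good h) {q : X' ⟶ X} {ρ : N' ⟶ N}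
    {h' : X' ⟶ N'} (sq : IsPullback q h' h ρ) : Good h' := by
  intro T g U
  let e := pullback.map h' g (pullback.snd h ρ) g sq.isoPullback.hom (𝟙 T) (𝟙 N')
    (by simp) (by simp)
  haveI : IsIso ((pullback.snd h (g ≫ ρ)).app U) := H T (g ≫ ρ) U
  have := isIso_app_comp_iso (asIso e ≪≫ pullbackLeftPullbackSndIso h ρ g) (pullback.snd h (g ≫ ρ)) U
  rwa [show (asIso e ≪≫ pullbackLeftPullbackSndIso h ρ g).hom ≫ pullback.snd h (g ≫ ρ) = pullback.snd h' g by
    simp [e]] at this

theorem Good.of_cover {X N : Scheme.{u}} (h : X ⟶ N) [QuasiCompact h] [QuasiSeparated h] {ι : Type*}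
    (O : ι → N.Opens) (hO : ∀ x, ∃ i, x ∈ O i) (H : ∀ i, Good (pullback.snd h (O i).ι)) : Good h := by
  intro T g U
  refine FlatMisc.isIso_app_of_bijective_affine _ (fun z => ?_) U
  obtain ⟨i, hi⟩ := hO (g z)
  obtain ⟨W, hW, hzW, hWO⟩ := exists_isAffineOpen_mem_and_subset (x := z) (U := g ⁻¹ᵁ O i) hi
  refine ⟨W, hW, hzW, ?_⟩
  let l : (W : Scheme.{u}) ⟶ (O i : Scheme.{u}) := IsOpenImmersion.lift (O i).ι (W.ι ≫ g) (by
    rw [Scheme.Opens.range_ι]; rintro _ ⟨w, rfl⟩; exact hWO w.2)
  have hl : l ≫ (O i).ι = W.ι ≫ g := IsOpenImmersion.lift_fac _ _ _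
  haveI := H i _ l ⊤
  let p := pullback.snd h g
  have hpb : IsPullback ((p ⁻¹ᵁ W).ι ≫ pullback.fst h g) (p ∣_ W) h (l ≫ (O i).ι) := by
    rw [hl]
    exact (isPullback_morphismRestrict p W).flip.paste_horiz (IsPullback.of_hasPullback h g)
  haveI : IsIso ((pullback.snd (pullback.snd h (O i).ι) l).app ⊤) := inferInstance
  have h1 := isIso_app_comp_iso (pullbackLeftPullbackSndIso h (O i).ι l).symm (pullback.snd (pullback.snd h (O i).ι) l) ⊤
  rw [Iso.symm_hom, pullbackLeftPullbackSndIso_inv_snd_snd] at h1
  have h2 := @isIso_app_comp_iso _ _ _ hpb.isoPullback (pullback.snd h (l ≫ (O i).ι)) ⊤ h1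
  rw [hpb.isoPullback_hom_snd, morphismRestrict_app] at h2
  have h3 : Function.Bijective (p.app (W.ι ''ᵁ ⊤)) := by
    haveI := h2
    haveI : IsIso (p.app (W.ι ''ᵁ ⊤)) := @IsIso.of_isIso_comp_right _ _ _ _ _ (p.app (W.ι ''ᵁ ⊤)) _ inferInstance h2
    exact ConcreteCategory.bijective_of_isIso _
  rwa [W.ι_image_top] at h3

theorem isIso_of_app {X N Q : Scheme.{u}} (h : X ⟶ N) (d : N ⟶ Q) [IsAffineHom d]
    (hh : ∀ U, IsIso (h.app U)) (hhd : ∀ U, IsIso ((h ≫ d).app U)) : IsIso d := by
  refine IsZariskiLocalAtTarget.of_forall_exists_morphismRestrict (P := .isomorphisms _) fun x => ?_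
  obtain ⟨W, hW, hxW, -⟩ := exists_isAffineOpen_mem_and_subset (x := x) (U := (⊤ : Q.Opens)) trivial
  refine ⟨W, hxW, (isIso_morphismRestrict_iff_isIso_app d hW).2 ?_⟩
  have := hhd W
  rw [Scheme.Hom.comp_app] at this
  haveI := hh (d ⁻¹ᵁ W)
  exact IsIso.of_isIso_comp_right (d.app W) (h.app (d ⁻¹ᵁ W))

theorem etale_of_comp_iso {A B C : CommRingCat.{u}} (a : A ⟶ B) (b : B ⟶ C) [IsIso b]
    (h : (a ≫ b).hom.Etale) : a.hom.Etale :=
  (RingHom.Etale.respectsIso.cancel_right_isIso a b).1 h

/-- Flat descent of etaleness at a prime from a strictly henselian ring. -/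
theorem isEtaleAt_of_local {A B : Type u} [CommRing A] [CommRing B] [Algebra A B] (q : Ideal B) [q.IsPrime]
    (R : Type u) [CommRing R] [Algebra A R] [Algebra (Localization.AtPrime (q.under A)) R]
    [IsScalarTower A (Localization.AtPrime (q.under A)) R] [Module.FaithfullyFlat (Localization.AtPrime (q.under A)) R]
    (h : Algebra.Etale R (TensorProduct A R B)) : Algebra.IsEtaleAt A q := by
  let p := q.under A
  let L := Localization.AtPrime p
  let M := Algebra.algebraMapSubmonoid B p.primeCompl
  let BM := Localization M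
  haveI : IsLocalization (Submonoid.map (algebraMap A B) p.primeCompl) BM :=
    (inferInstance : IsLocalization M BM)
  letI : Algebra L BM := (IsLocalization.map BM (algebraMap A B) (Submonoid.le_comap_map p.primeCompl) : L →+* BM).toAlgebra
  haveI : IsScalarTower A L BM := IsScalarTower.of_algebraMap_eq fun x => by
    change _ = IsLocalization.map BM (algebraMap A B) _ (algebraMap A L x)
    rw [IsLocalization.map_eq, ← IsScalarTower.algebraMap_apply]
  haveI : Algebra.IsPushout A L B BM := (Algebra.isPushout_of_isLocalization (A := L) (T := B) (B := BM) p.primeCompl).symm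
  haveI : Algebra.Etale L (TensorProduct A L B) := by
    haveI : Algebra.Etale R (TensorProduct L R (TensorProduct A L B)) :=
      Algebra.Etale.of_equiv (Algebra.TensorProduct.cancelBaseChange A L R R B).symm
    exact Algebra.Etale.of_etale_tensorProduct_of_faithfullyFlat R
  haveI : Algebra.Etale L BM := Algebra.Etale.of_equiv (Algebra.IsPushout.equiv A L B BM)
  haveI : Algebra.FormallyEtale A L := Algebra.FormallyEtale.of_isLocalization p.primeCompl
  haveI : Algebra.FormallyEtale A BM := Algebra.FormallyEtale.comp A L BM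
  have hle : M ≤ q.primeCompl := by
    rintro _ ⟨x, hx, rfl⟩; exact hx
  letI : Algebra BM (Localization.AtPrime q) :=
    IsLocalization.localizationAlgebraOfSubmonoidLe BM (Localization.AtPrime q) M _ hle
  haveI : IsScalarTower B BM (Localization.AtPrime q) :=
    IsLocalization.localization_isScalarTower_of_submonoid_le BM (Localization.AtPrime q) _ _ hle
  haveI : IsScalarTower A BM (Localization.AtPrime q) := IsScalarTower.to₁₃₄ A B BM (Localization.AtPrime q)
  haveI : IsLocalization (q.primeCompl.map (algebraMap B BM)) (Localization.AtPrime q) :=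
    IsLocalization.isLocalization_of_submonoid_le _ _ M _ hle
  haveI : Algebra.FormallyEtale BM (Localization.AtPrime q) :=
    Algebra.FormallyEtale.of_isLocalization (q.primeCompl.map (algebraMap B BM))
  exact Algebra.FormallyEtale.comp A BM (Localization.AtPrime q)

/-- Global functions are finite etale over a Noetherian ring. -/
theorem etale_appTop_noetherian (A : Type u) [CommRing A] [IsNoetherianRing A] {X : Scheme.{u}}
    (f : X ⟶ Spec (CommRingCat.of A)) [IsProper f] [Flat f] [LocallyOfFinitePresentation f]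
    [GeometricallyReduced f] : f.appTop.hom.Etale := by
  let A₀ := Γ(Spec (CommRingCat.of A), ⊤)
  let eA := (Scheme.ΓSpecIso (CommRingCat.of A)).commRingCatIsoToRingEquiv
  let φ : A →+* Γ(X, ⊤) := f.appTop.hom.comp eA.symm.toRingHom
  letI : Algebra A Γ(X, ⊤) := φ.toAlgebra
  suffices h : φ.Etale by
    have hfe : f.appTop.hom = φ.comp eA.toRingHom := by ext x; simp [φ]
    rw [hfe]
    exact RingHom.Etale.respectsIso.2 φ eA h
  rw [show φ = algebraMap A Γ(X, ⊤) from rfl, RingHom.etale_algebraMap]
  haveI : Module.Finite A Γ(X, ⊤) := RingHom.finite_algebraMap.1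
    ((Groth.Agent.S1297.finite_appTop f).comp (RingHom.Finite.of_surjective _ eA.symm.surjective))
  haveI : Algebra.FinitePresentation A Γ(X, ⊤) := Algebra.FinitePresentation.of_finiteType.1 inferInstance
  refine Algebra.etaleLocus_eq_univ_iff_etale.1 (Set.eq_univ_of_forall fun q => ?_)
  let p := q.asIdeal.under A
  obtain ⟨R, _, _, _, _, hR⟩ := Groth.Agent.S0537.result (Localization.AtPrime p)
  haveI := hR
  letI : Algebra A R := ((algebraMap (Localization.AtPrime p) R).comp (algebraMap A _)).toAlgebra
  haveI : IsScalarTower A (Localization.AtPrime p) R := IsScalarTower.of_algebraMap_eq' rfl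
  haveI := Groth.Agent.S0539.result (Localization.AtPrime p) R
  haveI : IsNoetherianRing R := (Groth.Agent.S0540.result (Localization.AtPrime p) R).1 inferInstance
  haveI : HenselianLocalRing R := hR.henselian
  haveI : IsSepClosed (IsLocalRing.ResidueField R) := hR.isSepClosure.sep_closed
  refine isEtaleAt_of_local q.asIdeal R ?_
  let σ : Spec (CommRingCat.of R) ⟶ Spec (CommRingCat.of A) := Spec.map (CommRingCat.ofHom (algebraMap A R))
  haveI : Module.Flat A R := Module.Flat.trans A (Localization.AtPrime p) R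
  haveI : Flat σ := (HasRingHomProperty.Spec_iff (P := @Flat)).2 (RingHom.flat_algebraMap_iff.2 inferInstance)
  haveI : CompactSpace X := QuasiCompact.compactSpace_of_compactSpace f
  haveI : QuasiSeparatedSpace X := quasiSeparatedSpace_of_quasiSeparated f
  let eR := (Scheme.ΓSpecIso (CommRingCat.of R)).commRingCatIsoToRingEquiv
  let fR := pullback.snd f σ
  have hpo := HensCouple7.isPushout_appTop (IsPullback.of_hasPullback f σ)
  have het : (fR.appTop).hom.Etale := etale_appTop R fR
  let ψ : R →+* Γ(pullback f σ, ⊤) := fR.appTop.hom.comp eR.symm.toRingHom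
  have hψ : ψ.Etale := RingHom.Etale.respectsIso.2 fR.appTop.hom eR.symm het
  letI : Algebra R Γ(pullback f σ, ⊤) := ψ.toAlgebra
  letI : Algebra Γ(X, ⊤) Γ(pullback f σ, ⊤) := (pullback.fst f σ).appTop.hom.toAlgebra
  letI : Algebra A Γ(pullback f σ, ⊤) := (ψ.comp (algebraMap A R)).toAlgebra
  haveI : IsScalarTower A R Γ(pullback f σ, ⊤) := IsScalarTower.of_algebraMap_eq' rfl
  haveI : IsScalarTower A Γ(X, ⊤) Γ(pullback f σ, ⊤) := IsScalarTower.of_algebraMap_eq fun x => by
    show fR.appTop (eR.symm (algebraMap A R x)) = (pullback.fst f σ).appTop (f.appTop (eA.symm x))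
    have h1 := congr($(congrArg Scheme.Hom.appTop (pullback.condition (f := f) (g := σ))) (eA.symm x))
    simp only [Scheme.Hom.comp_appTop, CommRingCat.comp_apply] at h1
    rw [h1]
    congr 1
    exact (congr($(Scheme.ΓSpecIso_inv_naturality (CommRingCat.ofHom (algebraMap A R))) x))
  haveI : Algebra.IsPushout A Γ(X, ⊤) R Γ(pullback f σ, ⊤) := by
    rw [← CommRingCat.isPushout_iff_isPushout]
    refine hpo.of_iso (Scheme.ΓSpecIso (CommRingCat.of A)) (Iso.refl _) (Scheme.ΓSpecIso (CommRingCat.of R)) (Iso.refl _) ?_ ?_ ?_ ?_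
    · ext x; simp [φ, RingHom.algebraMap_toAlgebra, eA, Iso.commRingCatIsoToRingEquiv, ← CommRingCat.comp_apply]
    · exact Scheme.ΓSpecIso_naturality (CommRingCat.ofHom (algebraMap A R))
    · ext x; simp [RingHom.algebraMap_toAlgebra]
    · ext x; simp [RingHom.algebraMap_toAlgebra, ψ, eR, fR, Iso.commRingCatIsoToRingEquiv, ← CommRingCat.comp_apply]
  haveI : Algebra.Etale R Γ(pullback f σ, ⊤) := by
    rw [← RingHom.etale_algebraMap]; exact hψ
  haveI : Algebra.IsPushout A R Γ(X, ⊤) Γ(pullback f σ, ⊤) := Algebra.IsPushout.symm inferInstance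
  exact Algebra.Etale.of_equiv (Algebra.IsPushout.equiv A R Γ(X, ⊤) Γ(pullback f σ, ⊤)).symm

theorem finite_etale_fromNormalization_noetherian {X S : Scheme.{u}} (f : X ⟶ S) [IsProper f] [Flat f]
    [LocallyOfFinitePresentation f] [GeometricallyReduced f] [IsLocallyNoetherian S] :
    IsFinite f.fromNormalization ∧ Etale f.fromNormalization := by
  refine ⟨Groth.Agent.S1297.result f, ?_⟩
  refine IsZariskiLocalAtTarget.of_forall_exists_morphismRestrict (P := @Etale) fun x => ?_
  obtain ⟨U, hU, hxU, -⟩ := exists_isAffineOpen_mem_and_subset (x := x) (U := (⊤ : S.Opens)) trivial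
  refine ⟨U, hxU, ?_⟩
  haveI : IsAffine U.toScheme := hU
  haveI : IsAffine (f.fromNormalization ⁻¹ᵁ U).toScheme := hU.preimage f.fromNormalization
  haveI : IsProper (f ∣_ U) := inferInstance
  haveI : Flat (f ∣_ U) := MorphismProperty.of_isPullback (isPullback_morphismRestrict f U).flip ‹_›
  haveI : LocallyOfFinitePresentation (f ∣_ U) := MorphismProperty.of_isPullback (isPullback_morphismRestrict f U).flip ‹_›
  haveI : IsNoetherianRing Γ(S, U) := IsLocallyNoetherian.component_noetherian ⟨U, hU⟩
  let f' := (f ∣_ U) ≫ hU.isoSpec.hom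
  haveI : Flat f' := inferInstanceAs (Flat ((f ∣_ U) ≫ hU.isoSpec.hom))
  haveI : GeometricallyReduced f' := by
    refine MorphismProperty.of_isPullback (P := @GeometricallyReduced) (f := hU.isoSpec.inv ≫ U.ι) (g := f) (f' := (f ⁻¹ᵁ U).ι) (g' := f') ?_ ‹_›
    refine (IsPullback.paste_horiz (IsPullback.of_horiz_isIso (fst := 𝟙 _) (snd := f') (f := f ∣_ U) (g := hU.isoSpec.inv)
      ⟨by simp [f']⟩) (isPullback_morphismRestrict f U).flip).of_iso (Iso.refl _) (Iso.refl _) (Iso.refl _) (Iso.refl _)
      (by simp) (by simp) (by simp) (by simp)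
  have h0 := etale_appTop_noetherian Γ(S, U) f'
  simp only [f', Scheme.Hom.comp_appTop, CommRingCat.hom_comp, RingHom.Etale.respectsIso.cancel_left_isIso] at h0
  haveI := FlatMisc.isIso_toNormalization_app f (f.fromNormalization ⁻¹ᵁ U)
  rw [HasRingHomProperty.iff_of_isAffine (P := @Etale)]
  rw [← Scheme.Hom.resLE_eq_morphismRestrict, RingHom.Etale.respectsIso.arrow_mk_iso_iff (arrowResLEAppIso f.fromNormalization _ _ le_rfl), Scheme.Hom.appLE_eq_app]
  rw [← Scheme.Hom.resLE_eq_morphismRestrict, RingHom.Etale.respectsIso.arrow_mk_iso_iff (arrowResLEAppIso f _ _ le_rfl), Scheme.Hom.appLE_eq_app] at h0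
  rw [Scheme.Hom.congr_app f.toNormalization_fromNormalization.symm U, Scheme.Hom.comp_app, Category.assoc] at h0
  exact etale_of_comp_iso _ _ h0

theorem good_toNormalization_noetherian {X S : Scheme.{u}} (f : X ⟶ S) [IsProper f] [Flat f]
    [LocallyOfFinitePresentation f] [GeometricallyReduced f] [IsLocallyNoetherian S] : Good f.toNormalization := by
  obtain ⟨hfin, het⟩ := finite_etale_fromNormalization_noetherian f
  haveI := hfin; haveI := het
  let ν := f.fromNormalization
  let h := f.toNormalization
  haveI : IsLocallyNoetherian f.normalization := LocallyOfFiniteType.isLocallyNoetherian ν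
  haveI : IsProper (h ≫ ν) := by rw [f.toNormalization_fromNormalization]; infer_instance
  haveI : IsProper h := IsProper.of_comp h ν
  let γ : X ⟶ pullback f ν := pullback.lift (𝟙 X) h (by simp [h, ν])
  have hγ : γ ≫ pullback.fst f ν = 𝟙 X := pullback.lift_fst _ _ _
  haveI : Etale (pullback.fst f ν) := MorphismProperty.pullback_fst _ _ het
  haveI : Etale (γ ≫ pullback.fst f ν) := by rw [hγ]; infer_instance
  haveI : Etale γ := Etale.of_comp γ (pullback.fst f ν)
  haveI : Mono γ := SplitMono.mono ⟨pullback.fst f ν, hγ⟩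
  haveI : IsOpenImmersion γ := IsOpenImmersion.of_flat_of_mono γ
  have hh : γ ≫ pullback.snd f ν = h := pullback.lift_snd _ _ _
  haveI : Flat h := by
    rw [← hh]
    haveI : Flat (pullback.snd f ν) := MorphismProperty.pullback_snd _ _ ‹_›
    infer_instance
  haveI : GeometricallyReduced h := by rw [← hh]; exact geometricallyReduced_openImmersion_comp γ _
  haveI : GeometricallyConnected h := ZarConn.geometricallyConnected h (FlatMisc.isIso_toNormalization_app f)
  exact fun T g U => isIso_app_of_geomConn h T g U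

theorem stein_affine {X S : Scheme.{u}} (f : X ⟶ S) [IsProper f] [Flat f]
    [LocallyOfFinitePresentation f] [GeometricallyReduced f] [IsAffine S] :
    IsFinite f.fromNormalization ∧ Etale f.fromNormalization ∧ Good f.toNormalization := by
  obtain ⟨S₁, X₁, ρ, f₁, q, _, _, _, _, _, sq⟩ := GeomNear.exists_proper_flat_model f
  let O : S₁.Opens := ⟨FlatMisc.GeomRedConstr.locus f₁, FlatMisc.GeomRedOpen.isOpen_locus f₁⟩
  have hO : Set.range ρ ⊆ (O : Set S₁) := by
    rintro _ ⟨s, rfl⟩
    exact (FlatMisc.GeomRedConstr.locus_preimage sq).le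
      (show GeometricallyReduced (f.fiberToSpecResidueField s) from inferInstance)
  let ρ₂ : S ⟶ O.toScheme := IsOpenImmersion.lift O.ι ρ (by rw [Scheme.Opens.range_ι]; exact hO)
  have hρ₂ : ρ₂ ≫ O.ι = ρ := IsOpenImmersion.lift_fac _ _ _
  let f₂ := f₁ ∣_ O
  have sq₂' := (isPullback_morphismRestrict f₁ O).flip
  haveI : IsLocallyNoetherian O.toScheme := inferInstance
  haveI : Flat f₂ := MorphismProperty.of_isPullback sq₂' ‹_›
  haveI : LocallyOfFinitePresentation f₂ := MorphismProperty.of_isPullback sq₂' ‹_›
  haveI : GeometricallyReduced f₂ := GeometricallyReduced.eq_geometrically ▸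
    geometrically_iff_forall_fiberToSpecResidueField.2 fun y =>
    GeometricallyReduced.eq_geometrically ▸ ((FlatMisc.GeomRedConstr.locus_preimage sq₂').ge y.2)
  let q₂ : X ⟶ (f₁ ⁻¹ᵁ O).toScheme := sq₂'.lift q (f ≫ ρ₂) (by rw [Category.assoc, hρ₂, sq.w])
  have sq₂ : IsPullback q₂ f f₂ ρ₂ := by
    refine IsPullback.of_right ?_ (sq₂'.lift_snd _ _ _) sq₂'
    rw [sq₂'.lift_fst, hρ₂]
    exact sq
  obtain ⟨hfin, het⟩ := finite_etale_fromNormalization_noetherian f₂
  have hgood := good_toNormalization_noetherian f₂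
  let ν := f₂.fromNormalization
  let h₁ := f₂.toNormalization
  let h : X ⟶ pullback ν ρ₂ := pullback.lift (q₂ ≫ h₁) f (by
    rw [Category.assoc, f₂.toNormalization_fromNormalization]; exact sq₂.w)
  have hsq : IsPullback q₂ h h₁ (pullback.fst ν ρ₂) := by
    refine IsPullback.of_bot ?_ (pullback.lift_fst _ _ _).symm (IsPullback.of_hasPullback ν ρ₂)
    rw [pullback.lift_snd, f₂.toNormalization_fromNormalization]
    exact sq₂
  have hgh : Good h := hgood.of_isPullback hsq
  haveI : IsFinite (pullback.snd ν ρ₂) := MorphismProperty.pullback_snd _ _ hfin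
  haveI : Etale (pullback.snd ν ρ₂) := MorphismProperty.pullback_snd _ _ het
  let d := f.normalizationDesc h (pullback.snd ν ρ₂) (pullback.lift_snd _ _ _).symm
  have hd₁ : f.toNormalization ≫ d = h := f.toNormalization_normalizationDesc _ _ _
  have hd₂ : d ≫ pullback.snd ν ρ₂ = f.fromNormalization := f.normalizationDesc_comp ..
  haveI : IsAffineHom (d ≫ pullback.snd ν ρ₂) := by rw [hd₂]; infer_instance
  haveI : IsAffineHom d := IsAffineHom.of_comp d (pullback.snd ν ρ₂)
  haveI : IsIso d := isIso_of_app f.toNormalization d (fun U => FlatMisc.isIso_toNormalization_app f U)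
    (fun U => by rw [hd₁]; exact hgh.app U)
  refine ⟨?_, ?_, hgh.of_isPullback (IsPullback.of_horiz_isIso (fst := 𝟙 X) (g := d) (f := h) (snd := f.toNormalization)
    ⟨by simp [hd₁]⟩)⟩
  · rw [← hd₂]; infer_instance
  · rw [← hd₂]; infer_instance

theorem isIso_normalizationPullback_of_good {X S T : Scheme.{u}} (f : X ⟶ S) [IsProper f] (g : T ⟶ S)
    (H : Good f.toNormalization) : IsIso (f.normalizationPullback g) := by
  haveI : IsProper (pullback.snd f g) := MorphismProperty.pullback_snd f g inferInstance
  have hH : IsPullback (pullback.fst f g) ((pullback.snd f g).toNormalization ≫ f.normalizationPullback g)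
      f.toNormalization (pullback.fst f.fromNormalization g) := by
    refine IsPullback.of_bot ?_ ?_ (IsPullback.of_hasPullback f.fromNormalization g)
    · simp only [Category.assoc, Scheme.Hom.normalizationPullback_snd, Scheme.Hom.toNormalization_fromNormalization]
      exact IsPullback.of_hasPullback f g
    · rw [Category.assoc, Scheme.Hom.toNormalization_normalizationPullback_fst]
  haveI : IsAffineHom (f.normalizationPullback g) := inferInstance
  exact isIso_of_app _ _ (fun U => FlatMisc.isIso_toNormalization_app _ U) (fun U => (H.of_isPullback hH).app U)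

theorem stein {X S : Scheme.{u}} (f : X ⟶ S) [IsProper f] [Flat f]
    [LocallyOfFinitePresentation f] [GeometricallyReduced f] :
    IsFinite f.fromNormalization ∧ Etale f.fromNormalization ∧ Good f.toNormalization := by
  have key : ∀ W : S.affineOpens, IsFinite (pullback.snd f.fromNormalization W.1.ι) ∧
      Etale (pullback.snd f.fromNormalization W.1.ι) ∧ Good (pullback.snd f.toNormalization (pullback.fst f.fromNormalization W.1.ι)) := fun W => by
    haveI : IsAffine W.1.toScheme := W.2
    obtain ⟨h1, h2, h3⟩ := stein_affine (pullback.snd f W.1.ι)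
    haveI := h1; haveI := h2
    haveI : IsIso (f.normalizationPullback W.1.ι) := inferInstance
    have he : pullback.snd f.fromNormalization W.1.ι = inv (f.normalizationPullback W.1.ι) ≫ (pullback.snd f W.1.ι).fromNormalization := by
      rw [IsIso.eq_inv_comp, Scheme.Hom.normalizationPullback_snd]
    refine ⟨by rw [he]; infer_instance, by rw [he]; infer_instance, ?_⟩
    have hH : IsPullback (pullback.fst f W.1.ι) ((pullback.snd f W.1.ι).toNormalization ≫ f.normalizationPullback W.1.ι)
        f.toNormalization (pullback.fst f.fromNormalization W.1.ι) := by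
      refine IsPullback.of_bot ?_ ?_ (IsPullback.of_hasPullback f.fromNormalization W.1.ι)
      · simp only [Category.assoc, Scheme.Hom.normalizationPullback_snd, Scheme.Hom.toNormalization_fromNormalization]
        exact IsPullback.of_hasPullback f W.1.ι
      · rw [Category.assoc, Scheme.Hom.toNormalization_normalizationPullback_fst]
    have h4 : Good ((pullback.snd f W.1.ι).toNormalization ≫ f.normalizationPullback W.1.ι) :=
      h3.of_isPullback (IsPullback.of_horiz_isIso (fst := 𝟙 _) (g := inv (f.normalizationPullback W.1.ι))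
        (f := (pullback.snd f W.1.ι).toNormalization) (snd := (pullback.snd f W.1.ι).toNormalization ≫ f.normalizationPullback W.1.ι) ⟨by simp⟩)
    exact h4.of_isPullback (IsPullback.of_horiz_isIso (fst := hH.isoPullback.inv) (g := 𝟙 _) ⟨by simp⟩)
  have hcov : iSup (fun W : S.affineOpens => W.1) = ⊤ := iSup_affineOpens_eq_top S
  refine ⟨?_, ?_, ?_⟩
  · rw [IsZariskiLocalAtTarget.iff_of_iSup_eq_top (P := @IsFinite) _ hcov]
    intro W
    rw [← MorphismProperty.cancel_left_of_respectsIso @IsFinite ((isPullback_morphismRestrict f.fromNormalization W.1).flip.isoPullback).inv]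
    simpa using (key W).1
  · rw [IsZariskiLocalAtTarget.iff_of_iSup_eq_top (P := @Etale) _ hcov]
    intro W
    rw [← MorphismProperty.cancel_left_of_respectsIso @Etale ((isPullback_morphismRestrict f.fromNormalization W.1).flip.isoPullback).inv]
    simpa using (key W).2.1
  · refine Good.of_cover f.toNormalization (fun W : S.affineOpens => f.fromNormalization ⁻¹ᵁ W.1) (fun z => ?_) fun W => ?_
    · obtain ⟨U, hU, hz, -⟩ := exists_isAffineOpen_mem_and_subset (x := f.fromNormalization z) (U := (⊤ : S.Opens)) trivial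
      exact ⟨⟨U, hU⟩, hz⟩
    · let i := (isPullback_morphismRestrict f.fromNormalization W.1).flip.isoPullback
      have hi : i.hom ≫ pullback.fst f.fromNormalization W.1.ι = (f.fromNormalization ⁻¹ᵁ W.1).ι := by simp [i]
      refine (key W).2.2.of_isPullback (ρ := i.hom) (q := pullback.lift (pullback.fst _ _) (pullback.snd _ _ ≫ i.hom) (by rw [pullback.condition, Category.assoc, hi])) ?_
      refine IsPullback.of_right ?_ (pullback.lift_snd _ _ _) (IsPullback.of_hasPullback f.toNormalization (pullback.fst f.fromNormalization W.1.ι))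
      rw [pullback.lift_fst, hi]
      exact IsPullback.of_hasPullback _ _

end Groth.Agent.SteinFE
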